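import Groth.Agent.FunMor.K355.FMBase
import Groth.Agent.Ega3B.RpushAff
import Groth.Agent.Ega3B.ProjFrame
import Groth.Agent.BSB.K946.DivVan
import Groth.Agent.Pic13.H945.PatchBC

/-!
# Base change of acyclic kernels

`K` on `P` is a kernel with respect to `p : P ⟶ X`, `q : P ⟶ Y` if `R^n q_* (p^* F ⊗ K) = 0` for
all quasi-coherent `F` and `n > 0`.  This property is inherited by the base change of `K` along
`T ×_S X ⟶ X`, for all `T` over the affine scheme `S`.
-/

set_option autoImplicit false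
universe u
open CategoryTheory CategoryTheory.Limits AlgebraicGeometry

namespace K293.FMAcyc

open K355 Groth.Agent

/-- The kernel `K` is acyclic with respect to `p` and `q`. -/
def IsAcyc {X Y P : Scheme.{u}} (p : P ⟶ X) (q : P ⟶ Y) [HasInjectiveResolutions P.Modules]
    (K : P.Modules) : Prop :=
  ∀ F : X.Modules, Coh.IsQCoh F → ∀ n : ℕ, 0 < n →
    IsZero ((Coh.Rpush q n).obj (CohB1.tensorMod ((Scheme.Modules.pullback p).obj F) K))

section

variable {X Y P : Scheme.{u}} (p : P ⟶ X) (q : P ⟶ Y) [HasInjectiveResolutions P.Modules]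
  (K : P.Modules) (hK : Coh.IsQCoh K)

/-- Pushforward of an exterior product along the base change of an affine morphism. -/
theorem nonempty_push_ext {W W' : Scheme.{u}} (b : W ⟶ X) [IsAffineHom b] (p' : W' ⟶ W)
    (a : W' ⟶ P) (h : IsPullback p' a b p) (hK : Coh.IsQCoh K) (F : W.Modules)
    (hF : Coh.IsQCoh F) :
    Nonempty ((Coh.push a).obj (CohB1.tensorMod ((Scheme.Modules.pullback p').obj F)
      ((Scheme.Modules.pullback a).obj K)) ≅
      CohB1.tensorMod ((Scheme.Modules.pullback p).obj ((Coh.push b).obj F)) K) := by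
  have ha : IsAffineHom a := MorphismProperty.of_isPullback h ‹_›
  let e1 : ((Scheme.Modules.pullback p).obj ((Coh.push b).obj F)) ≅
      (Scheme.Modules.pushforward a).obj ((Scheme.Modules.pullback p').obj F) :=
    (bcAffIso b p p' a h).app ⟨F, hF⟩
  let e2 : (DCoh.tensorRightMod K).obj
      ((Scheme.Modules.pushforward a).obj ((Scheme.Modules.pullback p').obj F)) ≅
      (Scheme.Modules.pushforward a).obj ((DCoh.tensorRightMod ((Scheme.Modules.pullback a).obj K)).obj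
        ((Scheme.Modules.pullback p').obj F)) :=
    (projAffIso a K hK).app ⟨(Scheme.Modules.pullback p').obj F, isQCoh_pull p' F hF⟩
  exact ⟨((DCoh.tensorRightMod K).mapIso e1 ≪≫ e2).symm⟩

include hK in
/-- The vanishing on one chart. -/
theorem subsingleton_chart [QuasiCompact q] [QuasiSeparated q] (hac : IsAcyc p q K)
    {W W' : Scheme.{u}} (b : W ⟶ X) [IsAffineHom b] (p' : W' ⟶ W)
    (a : W' ⟶ P) (h : IsPullback p' a b p) (F : W.Modules) (hF : Coh.IsQCoh F)
    {V : Y.Opens} (hV : IsAffineOpen V) (n : ℕ) (hn : 0 < n) :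
    Subsingleton (Coh.HHon W' (CohB1.tensorMod ((Scheme.Modules.pullback p').obj F)
      ((Scheme.Modules.pullback a).obj K)) (a ⁻¹ᵁ (q ⁻¹ᵁ V)) n) := by
  have ha : IsAffineHom a := MorphismProperty.of_isPullback h ‹_›
  have hbF : Coh.IsQCoh ((Coh.push b).obj F) := Ega1.QcqsPush.isQCoh_pushforward b F hF
  obtain ⟨e⟩ := nonempty_push_ext p K b p' a h hK F hF
  have h1 := Ega3B.RpushAff.subsingleton_HHon_of_isZero q _
    (Ega1.TensorRestrict.isQCoh_tensorMod _ K (isQCoh_pull p _ hbF) hK) hV n (hac _ hbF n hn)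
  exact (K946.DivVan.HHon_push a (Ega1.TensorRestrict.isQCoh_tensorMod _ _
    (isQCoh_pull p' F hF) (isQCoh_pull a K hK)) (q ⁻¹ᵁ V) n).1
    (K946.DivVan.HHon_of_iso e.symm _ n h1)

end

section

variable {S T X Y : Scheme.{u}} (t : T ⟶ S) (f : X ⟶ S) (g : Y ⟶ S)

/-- The square of `T ×_S X ×_S Y` over `X ×_S Y` and `T ×_S Y`. -/
theorem isPullback_13 (pr₁₃ : pullback (pullback.snd t f) (pullback.fst f g) ⟶ pullback t g)
    (h₁ : pr₁₃ ≫ pullback.fst t g = pullback.fst _ _ ≫ pullback.fst t f)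
    (h₂ : pr₁₃ ≫ pullback.snd t g = pullback.snd _ _ ≫ pullback.snd f g) :
    IsPullback pr₁₃ (pullback.snd (pullback.snd t f) (pullback.fst f g)) (pullback.snd t g)
      (pullback.snd f g) := by
  have hA := IsPullback.of_hasPullback (pullback.snd t f) (pullback.fst f g)
  have hB := IsPullback.of_hasPullback t f
  have hC := IsPullback.of_hasPullback t g
  have hAB : IsPullback (pullback.fst (pullback.snd t f) (pullback.fst f g) ≫ pullback.fst t f)
      (pullback.snd (pullback.snd t f) (pullback.fst f g)) t (pullback.fst f g ≫ f) :=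
    (hA.flip.paste_vert hB.flip).flip
  rw [← h₁, pullback.condition] at hAB
  exact (IsPullback.of_bot hAB.flip h₂.symm hC.flip).flip

end

section

variable {S T X Y : Scheme.{u}} [IsAffine S] (t : T ⟶ S) (f : X ⟶ S) (g : Y ⟶ S)

theorem main [QuasiCompact f] [QuasiSeparated f]
    [HasInjectiveResolutions (pullback f g).Modules]
    (K : (pullback f g).Modules) (hK : Coh.IsQCoh K)
    (hac : IsAcyc (pullback.fst f g) (pullback.snd f g) K)
    [HasInjectiveResolutions (pullback (pullback.snd t f) (pullback.fst f g)).Modules]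
    (pr₁₃ : pullback (pullback.snd t f) (pullback.fst f g) ⟶ pullback t g)
    (h₁ : pr₁₃ ≫ pullback.fst t g = pullback.fst _ _ ≫ pullback.fst t f)
    (h₂ : pr₁₃ ≫ pullback.snd t g = pullback.snd _ _ ≫ pullback.snd f g) :
    IsAcyc (pullback.fst (pullback.snd t f) (pullback.fst f g)) pr₁₃
      ((Scheme.Modules.pullback (pullback.snd (pullback.snd t f) (pullback.fst f g))).obj K) := by
  have h13 := isPullback_13 t f g pr₁₃ h₁ h₂
  have hqc : QuasiCompact pr₁₃ := MorphismProperty.of_isPullback h13.flip inferInstance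
  have hqs : QuasiSeparated pr₁₃ := MorphismProperty.of_isPullback h13.flip inferInstance
  intro F hF n hn
  refine (Ega3B.RpushAff.isZero_iff_cover pr₁₃ _
    (Ega1.TensorRestrict.isQCoh_tensorMod _ _ (isQCoh_pull _ F hF) (isQCoh_pull _ K hK))
    (fun i : T.affineOpens × Y.affineOpens =>
      pullback.fst t g ⁻¹ᵁ i.1.1 ⊓ pullback.snd t g ⁻¹ᵁ i.2.1)
    (fun i => Ega3B.ProjFrame.isAffineOpen_fst_inf_snd t g i.1.2 i.2.2) ?_ n).2 ?_
  · refine top_le_iff.1 fun z _ => ?_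
    obtain ⟨U, hU, hzU, -⟩ := exists_isAffineOpen_mem_and_subset
      (show pullback.fst t g z ∈ (⊤ : T.Opens) from trivial)
    obtain ⟨V, hV, hzV, -⟩ := exists_isAffineOpen_mem_and_subset
      (show pullback.snd t g z ∈ (⊤ : Y.Opens) from trivial)
    exact TopologicalSpace.Opens.mem_iSup.2 ⟨(⟨U, hU⟩, ⟨V, hV⟩), hzU, hzV⟩
  · rintro ⟨⟨T₀, hT₀⟩, ⟨Y₀, hY₀⟩⟩
    let P' := pullback (pullback.snd t f) (pullback.fst f g)
    let pr₁₂ : P' ⟶ pullback t f := pullback.fst (pullback.snd t f) (pullback.fst f g)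
    let pr₂₃ : P' ⟶ pullback f g := pullback.snd (pullback.snd t f) (pullback.fst f g)
    let W : (pullback t f).Opens := pullback.fst t f ⁻¹ᵁ T₀
    let W' : P'.Opens := pr₁₂ ⁻¹ᵁ W
    have i1 : IsAffine T₀ := hT₀
    have hsq : IsPullback (W.ι ≫ pullback.snd t f) (pullback.fst t f ∣_ T₀) f (T₀.ι ≫ t) := by
      exact ((isPullback_morphismRestrict (pullback.fst t f) T₀).paste_vert
        (IsPullback.of_hasPullback t f)).flip
    have hb : IsAffineHom (W.ι ≫ pullback.snd t f) :=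
      MorphismProperty.of_isPullback hsq.flip inferInstance
    have hbig : IsPullback (pr₁₂ ∣_ W) (W'.ι ≫ pr₂₃) (W.ι ≫ pullback.snd t f)
        (pullback.fst f g) := by
      exact (isPullback_morphismRestrict pr₁₂ W).paste_vert
        (IsPullback.of_hasPullback (pullback.snd t f) (pullback.fst f g))
    have key := subsingleton_chart (pullback.fst f g) (pullback.snd f g) K hK hac
      (W.ι ≫ pullback.snd t f) (pr₁₂ ∣_ W) (W'.ι ≫ pr₂₃) hbig
      ((Scheme.Modules.pullback W.ι).obj F) (isQCoh_pull _ F hF) hY₀ n hn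
    let G : P'.Modules := CohB1.tensorMod ((Scheme.Modules.pullback pr₁₂).obj F)
      ((Scheme.Modules.pullback pr₂₃).obj K)
    let e₁ : (Scheme.Modules.pullback W'.ι).obj ((Scheme.Modules.pullback pr₁₂).obj F) ≅
        (Scheme.Modules.pullback (pr₁₂ ∣_ W)).obj ((Scheme.Modules.pullback W.ι).obj F) :=
      (pullIso W'.ι pr₁₂ _ rfl).app F ≪≫
        (pullIso (pr₁₂ ∣_ W) W.ι (W'.ι ≫ pr₁₂) (morphismRestrict_ι pr₁₂ W)).symm.app F
    let e₂ : (Scheme.Modules.pullback W'.ι).obj ((Scheme.Modules.pullback pr₂₃).obj K) ≅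
        (Scheme.Modules.pullback (W'.ι ≫ pr₂₃)).obj K := (pullIso W'.ι pr₂₃ _ rfl).app K
    let e : (Scheme.Modules.pullback W'.ι).obj G ≅ CohB1.tensorMod
        ((Scheme.Modules.pullback (pr₁₂ ∣_ W)).obj ((Scheme.Modules.pullback W.ι).obj F))
        ((Scheme.Modules.pullback (W'.ι ≫ pr₂₃)).obj K) :=
      (muIsoR W'.ι ((Scheme.Modules.pullback pr₂₃).obj K)).app
        ((Scheme.Modules.pullback pr₁₂).obj F) ≪≫ Ega2.Tens.mapTIso e₁ e₂
    have h3 := (Pic13.H945.PatchBC.HHon_image_iff W'.ι G n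
      ((W'.ι ≫ pr₂₃) ⁻¹ᵁ (pullback.snd f g ⁻¹ᵁ Y₀))).1
      (K946.DivVan.HHon_of_iso e.symm _ n key)
    have h4 : W'.ι ''ᵁ ((W'.ι ≫ pr₂₃) ⁻¹ᵁ (pullback.snd f g ⁻¹ᵁ Y₀)) =
        pr₁₃ ⁻¹ᵁ (pullback.fst t g ⁻¹ᵁ T₀ ⊓ pullback.snd t g ⁻¹ᵁ Y₀) := by
      have h5 : pr₁₃ ⁻¹ᵁ (pullback.fst t g ⁻¹ᵁ T₀) = W' := by
        rw [← Scheme.Hom.comp_preimage, h₁, Scheme.Hom.comp_preimage]
      have h6 : pr₁₃ ⁻¹ᵁ (pullback.snd t g ⁻¹ᵁ Y₀) = pr₂₃ ⁻¹ᵁ (pullback.snd f g ⁻¹ᵁ Y₀) := by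
        rw [← Scheme.Hom.comp_preimage, h₂, Scheme.Hom.comp_preimage]
      change _ = pr₁₃ ⁻¹ᵁ (pullback.fst t g ⁻¹ᵁ T₀) ⊓ pr₁₃ ⁻¹ᵁ (pullback.snd t g ⁻¹ᵁ Y₀)
      rw [h5, h6, Scheme.Hom.comp_preimage, Scheme.Hom.image_preimage_eq_opensRange_inf,
        Scheme.Opens.opensRange_ι]
    rw [h4] at h3
    exact h3

end

end K293.FMAcyc
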