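import Groth.Agent.FormalB.BCFinal

/-!
# Flat base change with coefficients in degree zero

The canonical morphism `G ⊗ g^* f_* F ⟶ f'_* (f'^* G ⊗ g'^* F)` is an isomorphism if `f` is
quasi-compact and quasi-separated, `F` and `G` are quasi-coherent and `G` is flat over the base.
-/

set_option autoImplicit false
universe u

open CategoryTheory CategoryTheory.Limits AlgebraicGeometry Opposite TopologicalSpace
open Groth.Agent Groth.Agent.Dcoh.Stalk Groth.Agent.FormalB.BC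

namespace K293.BCZero

section

variable {C : Type*} [Category* C] {P A B Z P' A' B' Z' : C} {a : P ⟶ A} {b : P ⟶ B} {c : A ⟶ Z}
  {d : B ⟶ Z} {a' : P' ⟶ A'} {b' : P' ⟶ B'} {c' : A' ⟶ Z'} {d' : B' ⟶ Z'}

/-- A morphism of cartesian squares which is invertible at the three corners is invertible. -/
theorem isIso_of_isPullback (h : IsPullback a b c d) (h' : IsPullback a' b' c' d') (p : P ⟶ P')
    (α : A ⟶ A') (β : B ⟶ B') (γ : Z ⟶ Z') [IsIso α] [IsIso β] [IsIso γ]
    (ha : a ≫ α = p ≫ a') (hb : b ≫ β = p ≫ b') (hc : c ≫ γ = α ≫ c') (hd : d ≫ γ = β ≫ d') :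
    IsIso p := by
  have h1 : IsPullback (a ≫ α) (b ≫ β) c' d' :=
    IsPullback.of_iso h (Iso.refl P) (asIso α) (asIso β) (asIso γ) (by simp) (by simp)
      (by simpa using hc) (by simpa using hd)
  have h2 : p = (h1.isoIsPullback _ _ h').hom := by
    refine h'.hom_ext ?_ ?_
    · rw [IsPullback.isoIsPullback_hom_fst, ha]
    · rw [IsPullback.isoIsPullback_hom_snd, hb]
  rw [h2]
  infer_instance

end

variable {X S X' S' : Scheme.{u}} {f : X ⟶ S} {g : S' ⟶ S} {g' : X' ⟶ X} {f' : X' ⟶ S'}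

/-- Mayer-Vietoris for the comparison on stalks. -/
theorem isIso_mv (w : g' ≫ f = f' ≫ g) (G : S'.Modules) (F : X.Modules) (s' : S')
    (hG : FlatMod.IsFlatOver g G) {W U V Z : X.Opens} (hW : W = U ⊔ V)
    (hZ : Z = U ⊓ V) (h₂ : IsIso ((phiS w G U s').app F)) (h₃ : IsIso ((phiS w G V s').app F))
    (h₄ : IsIso ((phiS w G Z s').app F)) : IsIso ((phiS w G W s').app F) := by
  have h1 : U ≤ W := hW ▸ le_sup_left
  have h2 : V ≤ W := hW ▸ le_sup_right
  have h3 : Z ≤ U := hZ ▸ inf_le_left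
  have h4 : Z ≤ V := hZ ▸ inf_le_right
  have hT := T_preservesFiniteLimits g G hG
  have hp : PreservesFiniteLimits (Scheme.Modules.pushforward f) :=
    PreservesLimits.preservesFiniteLimits _
  have hp' : PreservesFiniteLimits (Scheme.Modules.pushforward f') :=
    PreservesLimits.preservesFiniteLimits _
  have hW' : g' ⁻¹ᵁ W = g' ⁻¹ᵁ U ⊔ g' ⁻¹ᵁ V := by rw [hW]; rfl
  have hZ' : g' ⁻¹ᵁ Z = g' ⁻¹ᵁ U ⊓ g' ⁻¹ᵁ V := by rw [hZ]; rfl
  have sq1 := (((isPullback_locF' F hW hZ h1 h2 h3 h4).map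
      (Scheme.Modules.pushforward f)).map (T g G)).map (stalkF s')
  have sq2 := ((isPullback_locF' ((PF g' f' G).obj F) hW' hZ' (g'.preimage_mono h1)
      (g'.preimage_mono h2) (g'.preimage_mono h3) (g'.preimage_mono h4)).map
      (Scheme.Modules.pushforward f')).map (stalkF s')
  exact isIso_of_isPullback sq1 sq2 ((phiS w G W s').app F) ((phiS w G U s').app F)
    ((phiS w G V s').app F) ((phiS w G Z s').app F) (phiS_res w G s' h1 F) (phiS_res w G s' h2 F)
    (phiS_res w G s' h3 F) (phiS_res w G s' h4 F)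

variable (H : IsPullback g' f' f g) (G : S'.Modules) (F : X.Modules)

theorem isIso_base (hG : Coh.IsQCoh G) (hF : Coh.IsQCoh F)
    {V : S.Opens} {W : X.Opens} (hV : IsAffineOpen V) (hWa : IsAffineOpen W)
    (hW : W ≤ f ⁻¹ᵁ V) (s' : S') (hs : g.base s' ∈ V) :
    IsIso ((phiS H.w G W s').app F) := by
  rw [ConcreteCategory.isIso_iff_bijective]
  exact bijective_stalk_phiApp H G F hV hWa hG hF s' hs hW

theorem isIso_preim [QuasiCompact f] [QuasiSeparated f] (hG : Coh.IsQCoh G)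
    (hGf : FlatMod.IsFlatOver g G) (hF : Coh.IsQCoh F)
    {V : S.Opens} (hV : IsAffineOpen V) (s' : S') (hs : g.base s' ∈ V) :
    IsIso ((phiS H.w G (f ⁻¹ᵁ V) s').app F) := by
  have h1 : CompactSpace (f ⁻¹ᵁ V : Scheme.{u}) :=
    isCompact_iff_compactSpace.1 (f.isCompact_preimage hV.isCompact)
  have h2 : QuasiSeparatedSpace (f ⁻¹ᵁ V : Scheme.{u}) :=
    (isQuasiSeparated_iff_quasiSeparatedSpace _ (f ⁻¹ᵁ V).2).1
      (f.isQuasiSeparated_preimage hV.isQuasiSeparated)
  have key := S0015.result (f ⁻¹ᵁ V : Scheme.{u})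
    (fun U => IsIso ((phiS H.w G ((f ⁻¹ᵁ V).ι ''ᵁ U) s').app F)) ?_ ?_ ⊤ isCompact_univ
  · have h3 : (f ⁻¹ᵁ V).ι ''ᵁ ⊤ = f ⁻¹ᵁ V := by
      rw [Scheme.Hom.image_top_eq_opensRange, Scheme.Opens.opensRange_ι]
    rwa [h3] at key
  · intro U hU
    refine isIso_base H G F hG hF hV
      (hU.image_of_isOpenImmersion (f ⁻¹ᵁ V).ι) ?_ s' hs
    refine ((f ⁻¹ᵁ V).ι.image_mono le_top).trans ?_
    rw [Scheme.Hom.image_top_eq_opensRange, Scheme.Opens.opensRange_ι]
  · intro U U' _ _ h1 h2 h3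
    refine isIso_mv H.w G F s' hGf ?_ ?_ h1 h2 h3
    · apply Opens.ext
      exact Set.image_union _ _ _
    · apply Opens.ext
      exact Set.image_inter (f ⁻¹ᵁ V).ι.isOpenEmbedding.injective

/-- Flat base change with coefficients. -/
theorem isIso_b [QuasiCompact f] [QuasiSeparated f] (hG : Coh.IsQCoh G)
    (hGf : FlatMod.IsFlatOver g G) (hF : Coh.IsQCoh F) : IsIso ((b H.w G).app F) := by
  have key : ∀ s' : S', IsIso ((stalkF s').map ((b H.w G).app F)) := by
    intro s'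
    obtain ⟨V, hV, hsV, -⟩ := exists_isAffineOpen_mem_and_subset
      (show g.base s' ∈ (⊤ : S.Opens) from trivial)
    have h1 : IsIso ((stalkF s').map (phiApp H.w G (f ⁻¹ᵁ V) F)) :=
      isIso_preim H G F hG hGf hF hV s' hsV
    have h2 := congrArg (stalkF s').map (b_phiApp H.w G (f ⁻¹ᵁ V) F)
    rw [Functor.map_comp, Functor.map_comp] at h2
    have h3 : IsIso ((stalkF s').map ((T g G).map ((Scheme.Modules.pushforward f).map
        (eta (f ⁻¹ᵁ V) F)))) := by
      rw [ConcreteCategory.isIso_iff_bijective]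
      exact bijective_stalk_T_map g G _ s'
        (bijective_stalk_push_eta f (f ⁻¹ᵁ V) V le_rfl _ _ hsV)
    have h4 : IsIso ((stalkF s').map ((Scheme.Modules.pushforward f').map
        (eta (g' ⁻¹ᵁ f ⁻¹ᵁ V) ((PF g' f' G).obj F)))) := by
      rw [ConcreteCategory.isIso_iff_bijective]
      refine bijective_stalk_push_eta f' (g' ⁻¹ᵁ f ⁻¹ᵁ V) (g ⁻¹ᵁ V) ?_ _ _ hsV
      exact (preim_eq H.w V).le
    have h5 : IsIso ((stalkF s').map ((T g G).map ((Scheme.Modules.pushforward f).map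
        (eta (f ⁻¹ᵁ V) F))) ≫ (stalkF s').map (phiApp H.w G (f ⁻¹ᵁ V) F)) := inferInstance
    have h6 : IsIso ((stalkF s').map ((b H.w G).app F) ≫
        (stalkF s').map ((Scheme.Modules.pushforward f').map
        (eta (g' ⁻¹ᵁ f ⁻¹ᵁ V) ((PF g' f' G).obj F)))) := by
      first | (rw [← h2]; exact h5) | (rw [h2]; exact h5)
    exact IsIso.of_isIso_comp_right _ ((stalkF s').map ((Scheme.Modules.pushforward f').map
        (eta (g' ⁻¹ᵁ f ⁻¹ᵁ V) ((PF g' f' G).obj F))))
  exact (jointlyReflectIsos S').isIso _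

end K293.BCZero
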