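import Groth.Agent.FunMor.K293.FlatCrit
import Groth.Agent.FunMor.K293.Acyc
import Groth.Agent.FunMor.K355.FMExactFlat
import Groth.Agent.PerfB.FlatPull
import Groth.Agent.PerfB.TildeExact
import Groth.Agent.PerfB.ModExact
import Groth.Agent.Fdesc.FlatBC

/-!
# Exact functors with a transformation to a Fourier–Mukai functor

`F : QCoh X ⥤ QCoh Y` exact, `t : F ⟶ q_* (p^* - ⊗ K)` invertible on direct images from an affine
cover: then `K` is flat over `X` and acyclic, and `t` is invertible.
-/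

set_option autoImplicit false
universe u
open CategoryTheory CategoryTheory.Limits AlgebraicGeometry

namespace K293.FM57

open K355 Groth.Agent

section General

variable {C : Type*} [Category* C] {D : Type*} [Category* D] {F G : C ⥤ D} (α : F ⟶ G)

theorem isIso_app_of_isLimit {J : Type*} [Category* J] {K : J ⥤ C} {c : Cone K} (hc : IsLimit c)
    [PreservesLimit K F] [PreservesLimit K G] (h : ∀ j, IsIso (α.app (K.obj j))) :
    IsIso (α.app c.pt) := by
  let φ : K ⋙ F ≅ K ⋙ G := NatIso.ofComponents (fun j => @asIso _ _ _ _ (α.app (K.obj j)) (h j))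
    (fun f => α.naturality _)
  have : α.app c.pt = (IsLimit.conePointsIsoOfNatIso (isLimitOfPreserves F hc)
      (isLimitOfPreserves G hc) φ).hom := by
    refine (isLimitOfPreserves G hc).hom_ext fun j => ?_
    rw [IsLimit.conePointsIsoOfNatIso_hom_comp]
    exact (α.naturality _).symm
  rw [this]
  infer_instance

end General

/-- Direct images along affine morphisms reflect monomorphisms of quasi-coherent modules. -/
theorem mono_of_push {X Y : Scheme.{u}} (f : Y ⟶ X) [IsAffineHom f] {M N : Y.Modules}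
    (hM : Coh.IsQCoh M) (hN : Coh.IsQCoh N) (φ : M ⟶ N)
    (h : Mono ((Scheme.Modules.pushforward f).map φ)) : Mono φ := by
  rw [Preadditive.mono_iff_isZero_kernel]
  haveI : (kernel φ).IsQuasicoherent := PerfA.QCohSerre.isQCoh_kernel φ hM hN
  have h0 : ∀ V : X.affineOpens, Subsingleton Γ(kernel φ, f ⁻¹ᵁ V.1) := fun V => by
    have h1 : ∀ s : Γ(kernel φ, f ⁻¹ᵁ V.1), s = 0 := fun s => by
      apply PerfB.ModExact.app_injective_of_mono (kernel.ι φ) (f ⁻¹ᵁ V.1)
      apply PerfB.ModExact.app_injective_of_mono ((Scheme.Modules.pushforward f).map φ) V.1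
      have h2 : (kernel.ι φ ≫ φ).app (f ⁻¹ᵁ V.1) s = 0 := by
        rw [kernel.condition]; rfl
      refine h2.trans ?_
      rw [map_zero]
      exact (map_zero _).symm
    exact ⟨fun a b => (h1 a).trans (h1 b).symm⟩
  have h3 : IsIso (0 : kernel φ ⟶ kernel φ) := by
    refine CohqA.PullbackQCoh.isIso_of_bijective_affineCover 0 (fun V : X.affineOpens => f ⁻¹ᵁ V.1)
      ?_ (fun V => V.2.preimage f) fun V => ?_
    · rw [← Scheme.Hom.preimage_iSup, iSup_affineOpens_eq_top]
      rfl
    · have := h0 V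
      exact ⟨fun _ _ _ => Subsingleton.elim _ _, fun y => ⟨0, Subsingleton.elim _ _⟩⟩
  rw [IsZero.iff_id_eq_zero]
  exact isIsoZeroSelfEquiv _ h3

/-- The unit along a flat surjective morphism is mono. -/
theorem mono_unit {X X' : Scheme.{u}} (f : X' ⟶ X) [Flat f] [Surjective f] (M : X.Modules) :
    Mono ((Scheme.Modules.pullbackPushforwardAdjunction f).unit.app M) := by
  have h := (Scheme.Modules.pullbackPushforwardAdjunction f).left_triangle_components M
  have : IsSplitMono ((Scheme.Modules.pullback f).map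
    ((Scheme.Modules.pullbackPushforwardAdjunction f).unit.app M)) := ⟨⟨⟨_, h⟩⟩⟩
  exact PerfB.FlatPull.mono_of_mono_pullback_map f _

section

variable {X Y P P' X' : Scheme.{u}} {p : P ⟶ X} {q : P ⟶ Y} {K : P.Modules} {f : X' ⟶ X}
  {p' : P' ⟶ X'} {g : P' ⟶ P}

/-- The functor `M ↦ q_* (p^* M ⊗ K)` on quasi-coherent modules. -/
noncomputable abbrev FMQ (p : P ⟶ X) (q : P ⟶ Y) (K : P.Modules) : QCohCat.QCoh X ⥤ Y.Modules :=
  (QCohCat.isQCoh X).ι ⋙ FM p q K

variable {F : QCohCat.QCoh X ⥤ QCohCat.QCoh Y} [PreservesFiniteLimits F]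
  [PreservesFiniteColimits F] (t : F ⋙ (QCohCat.isQCoh Y).ι ⟶ FMQ p q K)

/-- `t` is invertible on direct images from `X'`. -/
def IsoOn (t : F ⋙ (QCohCat.isQCoh Y).ι ⟶ FMQ p q K) (f : X' ⟶ X) : Prop :=
  ∀ M' : X'.Modules, Coh.IsQCoh M' → ∀ hM : QCohCat.isQCoh X ((Coh.push f).obj M'),
    IsIso (t.app ⟨(Coh.push f).obj M', hM⟩)

theorem mono_push_FM (ht : IsoOn t f) [IsAffineHom f] {M N : X'.Modules} (hM : Coh.IsQCoh M)
    (hN : Coh.IsQCoh N) (φ : M ⟶ N) [Mono φ] :
    Mono ((FM p q K).map ((Coh.push f).map φ)) := by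
  have hM' : QCohCat.isQCoh X ((Coh.push f).obj M) := Ega1.QcqsPush.isQCoh_pushforward f M hM
  have hN' : QCohCat.isQCoh X ((Coh.push f).obj N) := Ega1.QcqsPush.isQCoh_pushforward f N hN
  let α : (⟨(Coh.push f).obj M, hM'⟩ : QCohCat.QCoh X) ⟶ ⟨(Coh.push f).obj N, hN'⟩ :=
    ObjectProperty.homMk ((Coh.push f).map φ)
  have h0 : Mono ((Coh.push f).map φ) := inferInstance
  have h1 : Mono ((QCohCat.isQCoh X).ι.map α) := h0
  have h2 : Mono α := (QCohCat.isQCoh X).ι.mono_of_mono_map h1
  have := preservesFiniteLimits_ιQ Y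
  have h3 : Mono ((F ⋙ (QCohCat.isQCoh Y).ι).map α) := inferInstance
  have i1 := ht M hM hM'
  have i2 := ht N hN hN'
  have h4 : (FMQ p q K).map α = inv (t.app _) ≫ (F ⋙ (QCohCat.isQCoh Y).ι).map α ≫ t.app _ := by
    rw [t.naturality α, IsIso.inv_hom_id_assoc]
  have h5 : Mono ((FMQ p q K).map α) := by
    rw [h4]
    infer_instance
  exact h5

theorem mono_ext (hK : Coh.IsQCoh K) (ht : IsoOn t f) [IsAffineHom f] (h : IsPullback p' g f p)
    [IsAffineHom (g ≫ q)] {M N : X'.Modules} (hM : Coh.IsQCoh M) (hN : Coh.IsQCoh N) (φ : M ⟶ N)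
    [Mono φ] : Mono ((DCoh.tensorRightMod ((Scheme.Modules.pullback g).obj K)).map
      ((Scheme.Modules.pullback p').map φ)) := by
  obtain ⟨e⟩ := nonempty_push_FM p q K hK f p' (g ≫ q) g h rfl
  have h1 := mono_push_FM t ht hM hN φ
  let β : (⟨M, hM⟩ : QCohCat.QCoh X') ⟶ ⟨N, hN⟩ := ObjectProperty.homMk φ
  have h2 : Mono (((QCohCat.isQCoh X').ι ⋙ Coh.push f ⋙ FM p q K).map β) := h1
  have h3 : Mono (((QCohCat.isQCoh X').ι ⋙ FM p' (g ≫ q)
      ((Scheme.Modules.pullback g).obj K)).map β) :=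
    ((MorphismProperty.monomorphisms Y.Modules).arrow_mk_iso_iff
      (Arrow.isoMk (e.app _) (e.app _) (e.hom.naturality β).symm)).1 h2
  exact mono_of_push (g ≫ q)
    (Ega1.TensorRestrict.isQCoh_tensorMod _ _ (isQCoh_pull p' M hM) (isQCoh_pull g K hK))
    (Ega1.TensorRestrict.isQCoh_tensorMod _ _ (isQCoh_pull p' N hN) (isQCoh_pull g K hK)) _ h3

end

section Flat

variable {X Y P P' : Scheme.{u}} {R : CommRingCat.{u}} {p : P ⟶ X} {q : P ⟶ Y} {K : P.Modules}
  {f : Spec R ⟶ X} {p' : P' ⟶ Spec R} {g : P' ⟶ P}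
  {F : QCohCat.QCoh X ⥤ QCohCat.QCoh Y} [PreservesFiniteLimits F]
  [PreservesFiniteColimits F] (t : F ⋙ (QCohCat.isQCoh Y).ι ⟶ FMQ p q K)

/-- The kernel is flat over the source. -/
theorem isFlatOver (hK : Coh.IsQCoh K) (ht : IsoOn t f) [IsAffineHom f] [Flat f] [Surjective f]
    (h : IsPullback p' g f p) [IsAffineHom (g ≫ q)] : FlatMod.IsFlatOver p K := by
  refine (Fdesc.FlatBC.isFlatOver_iff h.flip K).2 (FlatCrit.isFlatOver_of_mono p' _ ?_)
  intro M N ψ hψ
  have h0 : Mono (tilde.map ψ) :=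
    inferInstanceAs (Mono ((tilde.functor R).map ψ))
  have h1 := mono_ext t hK ht h (M := tilde M) (N := tilde N) (inferInstance : (tilde M).IsQuasicoherent)
    (inferInstance : (tilde N).IsQuasicoherent) (tilde.map ψ)
  exact ((MorphismProperty.monomorphisms P'.Modules).arrow_mk_iso_iff
      (Arrow.isoMk ((Models2.FMExact.tensorRightModIso _).app _)
        ((Models2.FMExact.tensorRightModIso _).app _)
        ((Models2.FMExact.tensorRightModIso _).hom.naturality _).symm)).2 h1

end Flat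

section

variable {X Y P P' X' : Scheme.{u}} {p : P ⟶ X} {q : P ⟶ Y} {K : P.Modules} {f : X' ⟶ X}
  {p' : P' ⟶ X'} {g : P' ⟶ P}

/-- Direct images from `X'` are acyclic. -/
theorem isZero_push [QuasiCompact q] [QuasiSeparated q] [HasInjectiveResolutions P.Modules]
    (hK : Coh.IsQCoh K) [IsAffineHom f] (h : IsPullback p' g f p)
    [IsAffineHom (g ≫ q)] {M : X'.Modules} (hM : Coh.IsQCoh M) (n : ℕ) (hn : 0 < n) :
    IsZero ((Coh.Rpush q n).obj ((DCoh.tensorRightMod K).obj
        ((Scheme.Modules.pullback p).obj ((Coh.push f).obj M)))) := by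
  have hg : IsAffineHom g := MorphismProperty.of_isPullback h ‹_›
  have hfM : Coh.IsQCoh ((Coh.push f).obj M) := Ega1.QcqsPush.isQCoh_pushforward f M hM
  refine (Ega3B.RpushAff.isZero_iff q _ (Ega1.TensorRestrict.isQCoh_tensorMod _ K
    (isQCoh_pull p _ hfM) hK) n).2 fun V hV => ?_
  obtain ⟨e⟩ := FMAcyc.nonempty_push_ext p K f p' g h hK M hM
  refine K946.DivVan.HHon_of_iso e _ n ((K946.DivVan.HHon_push g
    (Ega1.TensorRestrict.isQCoh_tensorMod _ _ (isQCoh_pull p' M hM) (isQCoh_pull g K hK)) _ n).2 ?_)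
  exact Ega3B.RpushAff.subsingleton_HHon _
    (Ega1.TensorRestrict.isQCoh_tensorMod _ _ (isQCoh_pull p' M hM) (isQCoh_pull g K hK))
    (hV.preimage (g ≫ q)) n hn

variable {F : QCohCat.QCoh X ⥤ QCohCat.QCoh Y} [PreservesFiniteLimits F]
  [PreservesFiniteColimits F] (t : F ⋙ (QCohCat.isQCoh Y).ι ⟶ FMQ p q K)

/-- `f_* f^* M`. -/
noncomputable abbrev pp (f : X' ⟶ X) [IsAffineHom f] (M : QCohCat.QCoh X) : QCohCat.QCoh X :=
  ⟨(Coh.push f).obj ((Scheme.Modules.pullback f).obj M.obj),
    Ega1.QcqsPush.isQCoh_pushforward f _ (isQCoh_pull f M.obj M.property)⟩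

/-- `M ⟶ f_* f^* M`. -/
noncomputable abbrev un (f : X' ⟶ X) [IsAffineHom f] (M : QCohCat.QCoh X) : M ⟶ pp f M :=
  ObjectProperty.homMk ((Scheme.Modules.pullbackPushforwardAdjunction f).unit.app M.obj)

instance mono_un (f : X' ⟶ X) [IsAffineHom f] [Flat f] [Surjective f] (M : QCohCat.QCoh X) :
    Mono (un f M) := by
  have h1 : Mono ((QCohCat.isQCoh X).ι.map (un f M)) := mono_unit f M.obj
  exact (QCohCat.isQCoh X).ι.mono_of_mono_map h1

/-- The transformation is invertible. -/
theorem isIso_app (hfl : FlatMod.IsFlatOver p K) (ht : IsoOn t f) [IsAffineHom f] [Flat f]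
    [Surjective f] (M : QCohCat.QCoh X) : IsIso (t.app M) := by
  let := abelianQCoh X
  have := preservesFiniteLimits_ιQ X
  have := preservesFiniteLimits_ιQ Y
  have hG : PreservesFiniteLimits (Models2.FMExact.G p K) :=
    Models2.FMExact.preservesFiniteLimits_G p K hfl
  have h1 : PreservesFiniteLimits (Models2.FMExact.G p K ⋙ Scheme.Modules.pushforward q) :=
    comp_preservesFiniteLimits _ _
  have h2 : PreservesFiniteLimits (FM p q K) := h1
  have h3 : PreservesFiniteLimits (FMQ p q K) := comp_preservesFiniteLimits _ (FM p q K)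
  let S : ShortComplex (QCohCat.QCoh X) := ShortComplex.mk (un f M)
    (cokernel.π (un f M) ≫ un f (cokernel (un f M))) (by simp)
  have hS : S.Exact := by
    have hS0 : (ShortComplex.mk (un f M) (cokernel.π (un f M)) (by simp)).Exact :=
      ShortComplex.exact_of_g_is_cokernel _ (cokernelIsCokernel _)
    let φ : ShortComplex.mk (un f M) (cokernel.π (un f M)) (by simp) ⟶ S :=
      { τ₁ := 𝟙 _, τ₂ := 𝟙 _, τ₃ := un f (cokernel (un f M)) }
    have : Epi φ.τ₁ := inferInstanceAs (Epi (𝟙 _))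
    have : IsIso φ.τ₂ := inferInstanceAs (IsIso (𝟙 _))
    have : Mono φ.τ₃ := inferInstanceAs (Mono (un f (cokernel (un f M))))
    exact (ShortComplex.exact_iff_of_epi_of_isIso_of_mono φ).1 hS0
  have : Mono S.f := inferInstanceAs (Mono (un f M))
  refine isIso_app_of_isLimit t hS.fIsKernel fun i => ?_
  match i with
  | .zero => exact ht _ (isQCoh_pull f _ M.property) _
  | .one => exact ht _ (isQCoh_pull f _ (cokernel (un f M)).property) _

/-- The kernel is acyclic. -/
theorem isZero_Rpush [QuasiCompact q] [QuasiSeparated q] [HasInjectiveResolutions P.Modules]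
    (hK : Coh.IsQCoh K) (hfl : FlatMod.IsFlatOver p K) (ht : IsoOn t f) [IsAffineHom f] [Flat f]
    [Surjective f] (h : IsPullback p' g f p) [IsAffineHom (g ≫ q)] (n : ℕ) :
    ∀ M : QCohCat.QCoh X, IsZero ((Coh.Rpush q (n + 1)).obj ((DCoh.tensorRightMod K).obj
        ((Scheme.Modules.pullback p).obj M.obj))) := by
  let := abelianQCoh X
  have := preservesFiniteLimits_ιQ X
  have := preservesFiniteColimits_ιQ X
  have := preservesFiniteColimits_ιQ Y
  have hG : PreservesFiniteLimits (Models2.FMExact.G p K) :=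
    Models2.FMExact.preservesFiniteLimits_G p K hfl
  have hses : ∀ M : QCohCat.QCoh X, (((ShortComplex.mk (un f M) (cokernel.π (un f M)) (by simp)).map
      (QCohCat.isQCoh X).ι).map (Models2.FMExact.G p K)).ShortExact := fun M => by
    have h0 : (ShortComplex.mk (un f M) (cokernel.π (un f M)) (by simp)).ShortExact :=
      { exact := ShortComplex.exact_of_g_is_cokernel _ (cokernelIsCokernel _)
        mono_f := inferInstanceAs (Mono (un f M))
        epi_g := inferInstanceAs (Epi (cokernel.π (un f M))) }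
    exact (h0.map_of_exact (QCohCat.isQCoh X).ι).map_of_exact (Models2.FMExact.G p K)
  induction n with
  | zero =>
    intro M
    have i1 : IsIso (t.app (pp f M)) := ht _ (isQCoh_pull f _ M.property) _
    have i2 : IsIso (t.app (cokernel (un f M))) := isIso_app t hfl ht _
    have e1 : Epi ((F ⋙ (QCohCat.isQCoh Y).ι).map (cokernel.π (un f M))) := inferInstance
    have e2 : (FMQ p q K).map (cokernel.π (un f M)) =
        inv (t.app _) ≫ (F ⋙ (QCohCat.isQCoh Y).ι).map (cokernel.π (un f M)) ≫ t.app _ := by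
      rw [t.naturality (cokernel.π (un f M)), IsIso.inv_hom_id_assoc]
    have e3 : Epi ((FMQ p q K).map (cokernel.π (un f M))) := by
      rw [e2]
      infer_instance
    obtain ⟨δ, hδ⟩ := (Cohder.RDLES.exists_les (Scheme.Modules.pushforward q) (hses M)).2.2
    obtain ⟨w₁, w₂, h1, h2⟩ := hδ 0
    have e4 : Epi (((Scheme.Modules.pushforward q).rightDerived 0).map
        (((ShortComplex.mk (un f M) (cokernel.π (un f M)) (by simp)).map
          (QCohCat.isQCoh X).ι).map (Models2.FMExact.G p K)).g) := by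
      refine ((MorphismProperty.epimorphisms Y.Modules).arrow_mk_iso_iff
        (Arrow.isoMk ((Scheme.Modules.pushforward q).rightDerivedZeroIsoSelf.app _)
          ((Scheme.Modules.pushforward q).rightDerivedZeroIsoSelf.app _)
          ((Scheme.Modules.pushforward q).rightDerivedZeroIsoSelf.hom.naturality _).symm)).2 ?_
      exact e3
    have hz : δ 0 = 0 := (cancel_epi (((Scheme.Modules.pushforward q).rightDerived 0).map _)).1
      (w₁.trans comp_zero.symm)
    have h3 : IsZero (((Scheme.Modules.pushforward q).rightDerived 1).obj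
        (((ShortComplex.mk (un f M) (cokernel.π (un f M)) (by simp)).map
          (QCohCat.isQCoh X).ι).map (Models2.FMExact.G p K)).X₂) :=
      isZero_push hK h (isQCoh_pull f _ M.property) 1 Nat.one_pos
    exact h2.isZero_of_both_zeros hz (h3.eq_of_tgt _ _)
  | succ n ih =>
    intro M
    exact Cohder.RDAcyc.isZero_X₁ (Scheme.Modules.pushforward q) (hses M) (n + 1)
      (ih (cokernel (un f M)))
      (isZero_push hK h (isQCoh_pull f _ M.property) (n + 1 + 1) (Nat.succ_pos _))

end

end K293.FM57
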