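import Groth.Agent.FunMor.K293.FM57

/-!
# Exact functors are Fourier–Mukai functors with a flat and acyclic kernel

`main`: an exact functor `F : QCoh X ⥤ QCoh Y` with a transformation to `q_* (p^* - ⊗ K)` which is
invertible on direct images from affine schemes is isomorphic to it, and `K` is flat over `X` and
acyclic.
-/

set_option autoImplicit false
universe u
open CategoryTheory CategoryTheory.Limits AlgebraicGeometry

namespace K293.FM57

open K355 Groth.Agent

/-- A flat affine cover by one affine scheme. -/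
theorem exists_cover {X S : Scheme.{u}} [IsAffine S] (x : X ⟶ S) [CompactSpace X]
    [IsAffineHom (pullback.diagonal x)] :
    ∃ (R : CommRingCat.{u}) (f : Spec R ⟶ X), IsAffineHom f ∧ Flat f ∧ Surjective f := by
  have h : ∀ x : X, ∃ W : X.Opens, x ∈ W ∧ IsAffineOpen W := by
    intro x
    obtain ⟨W, hW, hxW, -⟩ := exists_isAffineOpen_mem_and_subset (X := X) (U := ⊤) (x := x) trivial
    exact ⟨W, hxW, hW⟩
  choose W hxW hW using h
  obtain ⟨t, ht⟩ := isCompact_univ.elim_finite_subcover (fun x : X => (W x : Set X))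
    (fun x => (W x).2) (fun x _ => Set.mem_iUnion.2 ⟨x, hxW x⟩)
  let Y : t → Scheme.{u} := fun x => (W x.1 : Scheme.{u})
  have hY : ∀ x, IsAffine (Y x) := fun x => hW x.1
  let q : (∐ Y) ⟶ X := Sigma.desc (fun x => (W x.1).ι)
  have hq1 : Flat q := IsZariskiLocalAtSource.sigmaDesc
    (P := (@Flat : MorphismProperty Scheme.{u})) fun x => inferInstance
  have hq2 : Surjective q := ⟨fun x => by
    obtain ⟨y, hy, hxy⟩ := Set.mem_iUnion₂.1 (ht (Set.mem_univ x))
    refine ⟨Sigma.ι Y ⟨y, hy⟩ ⟨x, hxy⟩, ?_⟩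
    have e : Sigma.ι Y ⟨y, hy⟩ ≫ q = (W y).ι := Sigma.ι_desc _ _
    exact congrArg (fun z : (W y : Scheme.{u}) ⟶ X => z ⟨x, hxy⟩) e⟩
  let f := (∐ Y).isoSpec.inv ≫ q
  refine ⟨_, f, ?_, inferInstance, inferInstance⟩
  have h1 : MorphismProperty.HasOfPostcompProperty @IsAffineHom
      (MorphismProperty.diagonal @IsAffineHom) :=
    MorphismProperty.hasOfPostcompProperty_iff_le_diagonal.2 le_rfl
  refine MorphismProperty.of_postcomp @IsAffineHom (W' := MorphismProperty.diagonal @IsAffineHom)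
    f x ?_ ?_
  · assumption
  · infer_instance

theorem main {S X Y : Scheme.{u}} [IsAffine S] (x : X ⟶ S) (y : Y ⟶ S) [CompactSpace X]
    [IsAffineHom (pullback.diagonal x)] [HasInjectiveResolutions (pullback x y).Modules]
    (F : QCohCat.QCoh X ⥤ QCohCat.QCoh Y) [PreservesFiniteLimits F] [PreservesFiniteColimits F]
    (K : (pullback x y).Modules) (hK : Coh.IsQCoh K)
    (t : F ⋙ (QCohCat.isQCoh Y).ι ⟶ FMQ (pullback.fst x y) (pullback.snd x y) K)
    (ht : ∀ (X' : Scheme.{u}) [IsAffine X'] (f : X' ⟶ X) (M' : X'.Modules), Coh.IsQCoh M' →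
      ∀ (hM : QCohCat.isQCoh X ((Coh.push f).obj M')), IsIso (t.app ⟨(Coh.push f).obj M', hM⟩)) :
    FlatMod.IsFlatOver (pullback.fst x y) K ∧
      (∀ M : X.Modules, Coh.IsQCoh M → ∀ n : ℕ, 0 < n →
        IsZero ((Coh.Rpush (pullback.snd x y) n).obj ((DCoh.tensorRightMod K).obj
          ((Scheme.Modules.pullback (pullback.fst x y)).obj M)))) ∧
      Nonempty (F ⋙ (QCohCat.isQCoh Y).ι ≅ FMQ (pullback.fst x y) (pullback.snd x y) K) := by
  obtain ⟨R, f, hf1, hf2, hf3⟩ := exists_cover x
  have hX : IsAffineHom (f ≫ x) := inferInstance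
  have hx1 : QuasiCompact x := inferInstance
  have hx2 : QuasiSeparated x := ⟨inferInstance⟩
  have H := IsPullback.of_hasPullback x y
  have hq1 : QuasiCompact (pullback.snd x y) := MorphismProperty.of_isPullback H hx1
  have hq2 : QuasiSeparated (pullback.snd x y) := MorphismProperty.of_isPullback H hx2
  have h := IsPullback.of_hasPullback f (pullback.fst x y)
  have hgq : IsAffineHom (pullback.snd f (pullback.fst x y) ≫ pullback.snd x y) :=
    MorphismProperty.of_isPullback (h.flip.paste_horiz H.flip).flip hX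
  have hto : IsoOn t f := fun M' hM' hM => ht _ f M' hM' hM
  have hfl := isFlatOver t hK hto h
  refine ⟨hfl, fun M hM n hn => ?_, ?_⟩
  · obtain ⟨n, rfl⟩ : ∃ m, n = m + 1 := ⟨n - 1, by omega⟩
    exact isZero_Rpush t hK hfl hto h n ⟨M, hM⟩
  · have := fun M => isIso_app t hfl hto M
    have : IsIso t := NatIso.isIso_of_isIso_app _
    exact ⟨asIso t⟩

end K293.FM57
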