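import Groth.Agent.FunMor.K293.ProjAc
import Groth.Agent.FunMor.K293.BCZero
import Groth.Agent.FunMor.K293.Acyc
import Groth.Agent.FunMor.K355.FMExactFlat
import Groth.Agent.S0485

/-!
# Composition of functors given by flat acyclic kernels
-/

set_option autoImplicit false
universe u
open CategoryTheory CategoryTheory.Limits AlgebraicGeometry

namespace K293.FMComp

open K355 Groth.Agent K293.FMAcyc K293.ProjAc

section General

variable {X Y Z P Q W R₃ : Scheme.{u}}

/-- Affine charts of a scheme with affine diagonal are affine morphisms. -/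
theorem isAffineHom_fromSpec {S : Scheme.{u}} [IsAffine S] (f : X ⟶ S)
    [IsAffineHom (pullback.diagonal f)] {U : X.Opens} (hU : IsAffineOpen U) :
    IsAffineHom hU.fromSpec := by
  have h1 : MorphismProperty.HasOfPostcompProperty @IsAffineHom
      (MorphismProperty.diagonal @IsAffineHom) :=
    MorphismProperty.hasOfPostcompProperty_iff_le_diagonal.2 le_rfl
  refine MorphismProperty.of_postcomp @IsAffineHom (W' := MorphismProperty.diagonal @IsAffineHom)
    hU.fromSpec f ?_ ?_
  · assumption
  · infer_instance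

open scoped Groth.Agent.Dcoh.MonCat in
open MonoidalCategory in
/-- `(M ⊗ A) ⊗ B ≅ M ⊗ (A ⊗ B)`. -/
noncomputable def assocR (A B : X.Modules) :
    DCoh.tensorRightMod A ⋙ DCoh.tensorRightMod B ≅
      DCoh.tensorRightMod (CohB1.tensorMod A B) :=
  NatIso.ofComponents (fun M => α_ M A B) (fun φ => associator_naturality_left φ A B)

/-- Flat base change with coefficients, naturally. -/
theorem nonempty_bc (q : P ⟶ Y) [QuasiCompact q] [QuasiSeparated q] (p₂ : Q ⟶ Y) (a : W ⟶ P)
    (b : W ⟶ Q) (H : IsPullback a b q p₂) (L : Q.Modules) (hL : Coh.IsQCoh L)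
    (hLf : FlatMod.IsFlatOver p₂ L) :
    Nonempty ((QCohCat.isQCoh P).ι ⋙ Scheme.Modules.pushforward q ⋙
        (Scheme.Modules.pullback p₂ ⋙ DCoh.tensorRightMod L) ≅
      (QCohCat.isQCoh P).ι ⋙ (Scheme.Modules.pullback a ⋙
        DCoh.tensorRightMod ((Scheme.Modules.pullback b).obj L)) ⋙
          Scheme.Modules.pushforward b) := by
  have h1 : IsIso (Functor.whiskerLeft (QCohCat.isQCoh P).ι (FormalB.BC.b H.w L)) := by
    have : ∀ M, IsIso ((Functor.whiskerLeft (QCohCat.isQCoh P).ι
        (FormalB.BC.b H.w L)).app M) := fun M =>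
      BCZero.isIso_b H L M.obj hL hLf M.property
    exact NatIso.isIso_of_isIso_app _
  let e1 : (QCohCat.isQCoh P).ι ⋙ Scheme.Modules.pushforward q ⋙
        (Scheme.Modules.pullback p₂ ⋙ DCoh.tensorRightMod L) ≅
      (QCohCat.isQCoh P).ι ⋙ Scheme.Modules.pushforward q ⋙ FormalB.BC.T p₂ L :=
    Functor.isoWhiskerLeft ((QCohCat.isQCoh P).ι ⋙ Scheme.Modules.pushforward q ⋙
      Scheme.Modules.pullback p₂) (Dcoh.TMod.braidIso L).symm
  let e2 := @asIso _ _ _ _ _ h1
  let e3 : (QCohCat.isQCoh P).ι ⋙ FormalB.BC.PF a b L ⋙ Scheme.Modules.pushforward b ≅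
      (QCohCat.isQCoh P).ι ⋙ (Scheme.Modules.pullback a ⋙
        DCoh.tensorRightMod ((Scheme.Modules.pullback b).obj L)) ⋙
          Scheme.Modules.pushforward b :=
    Functor.isoWhiskerLeft ((QCohCat.isQCoh P).ι ⋙ Scheme.Modules.pullback a)
      (Functor.isoWhiskerRight (Dcoh.TMod.braidIso ((Scheme.Modules.pullback b).obj L))
        (Scheme.Modules.pushforward b))
  exact ⟨e1 ≪≫ e2 ≪≫ e3⟩

/-- `a^* (p^* M ⊗ K) ⊗ B ≅ c^* r^* M ⊗ (a^* K ⊗ B)`. -/
noncomputable def reassoc (p : P ⟶ X) (a : W ⟶ P) (r : R₃ ⟶ X) (c : W ⟶ R₃)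
    (h : c ≫ r = a ≫ p) (K : P.Modules) (B : W.Modules) :
    (Scheme.Modules.pullback p ⋙ DCoh.tensorRightMod K) ⋙
        (Scheme.Modules.pullback a ⋙ DCoh.tensorRightMod B) ≅
      (Scheme.Modules.pullback r ⋙ Scheme.Modules.pullback c) ⋙
        DCoh.tensorRightMod (CohB1.tensorMod ((Scheme.Modules.pullback a).obj K) B) :=
  Functor.isoWhiskerLeft (Scheme.Modules.pullback p)
      (Functor.isoWhiskerRight (muIsoR a K) (DCoh.tensorRightMod B)) ≪≫
    Functor.isoWhiskerLeft (Scheme.Modules.pullback p ⋙ Scheme.Modules.pullback a)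
      (assocR ((Scheme.Modules.pullback a).obj K) B) ≪≫
    Functor.isoWhiskerRight (pullIso a p (a ≫ p) rfl ≪≫ (pullIso c r (a ≫ p) h).symm)
      (DCoh.tensorRightMod (CohB1.tensorMod ((Scheme.Modules.pullback a).obj K) B))

end General

section Main

variable {S X Y Z : Scheme.{u}} [IsAffine S] (f : X ⟶ S) (g : Y ⟶ S) (h : Z ⟶ S)

theorem nonempty_comp [QuasiCompact f] [QuasiSeparated f] [IsAffineHom (pullback.diagonal f)]
    [QuasiCompact g] [QuasiSeparated g]
    [HasInjectiveResolutions (pullback g h).Modules]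
    (K : (pullback f g).Modules) (hK : Coh.IsQCoh K)
    (L : (pullback g h).Modules) (hL : Coh.IsQCoh L)
    (hLf : FlatMod.IsFlatOver (pullback.fst g h) L)
    (hLa : IsAcyc (pullback.fst g h) (pullback.snd g h) L)
    (c : pullback (pullback.snd f g) (pullback.fst g h) ⟶ pullback f h)
    (h₁ : c ≫ pullback.fst f h = pullback.fst _ _ ≫ pullback.fst f g)
    (h₂ : c ≫ pullback.snd f h = pullback.snd _ _ ≫ pullback.snd g h) :
    Nonempty (((QCohCat.isQCoh X).ι ⋙ FM (pullback.fst f g) (pullback.snd f g) K) ⋙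
        FM (pullback.fst g h) (pullback.snd g h) L ≅
      (QCohCat.isQCoh X).ι ⋙ FM (pullback.fst f h) (pullback.snd f h)
        ((Coh.push c).obj (CohB1.tensorMod
          ((Scheme.Modules.pullback
            (pullback.fst (pullback.snd f g) (pullback.fst g h))).obj K)
          ((Scheme.Modules.pullback
            (pullback.snd (pullback.snd f g) (pullback.fst g h))).obj L)))) := by
  let W := pullback (pullback.snd f g) (pullback.fst g h)
  let a : W ⟶ pullback f g := pullback.fst (pullback.snd f g) (pullback.fst g h)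
  let b : W ⟶ pullback g h := pullback.snd (pullback.snd f g) (pullback.fst g h)
  let L' : W.Modules := (Scheme.Modules.pullback b).obj L
  let N : W.Modules := CohB1.tensorMod ((Scheme.Modules.pullback a).obj K) L'
  have H : IsPullback a b (pullback.snd f g) (pullback.fst g h) := IsPullback.of_hasPullback _ _
  have hinj : EnoughInjectives W.Modules := S0485.result _ W.ringCatSheaf
  have hac := FMAcyc.main f g h L hL hLa c h₁ h₂
  have h13 := isPullback_13 f g h c h₁ h₂
  have hqc : QuasiCompact c := MorphismProperty.of_isPullback h13.flip inferInstance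
  have hqs : QuasiSeparated c := MorphismProperty.of_isPullback h13.flip inferInstance
  have hL' : Coh.IsQCoh L' := isQCoh_pull _ L hL
  have hfl : FlatMod.IsFlatOver a L' := FormalB.BC.isFlatOver_pullback H.flip L hLf
  -- the middle functor
  let Θ : QCohCat.QCoh X ⥤ (pullback f h).Modules :=
    pullTensQ (pullback.fst f g) K hK ⋙ ((QCohCat.isQCoh (pullback f g)).ι ⋙ FM a c L')
  have hΘf : PreservesFiniteColimits Θ := by
    have e1 := preservesFiniteColimits_of_small (pullTensQ (pullback.fst f g) K hK)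
      (fun J _ => preservesColimits_pullTensQ (pullback.fst f g) K hK J)
    have e2 := (exact_FM a c L' hfl (fun M hM => hac M hM 1 one_pos)).2
    infer_instance
  have hΘ : ∀ J : Type u, PreservesColimitsOfShape (Discrete J) Θ := by
    intro J
    have e1 := preservesColimits_pullTensQ (pullback.fst f g) K hK (Discrete J)
    have e2 := preservesCoproducts_FM a c L' hL' J
    infer_instance
  let e4 : Θ ≅ (QCohCat.isQCoh X).ι ⋙ Φ₂ (pullback.fst f h) c N :=
    Functor.isoWhiskerLeft (QCohCat.isQCoh X).ι (Functor.isoWhiskerRight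
      (reassoc (pullback.fst f g) a (pullback.fst f h) c h₁ K L')
      (Scheme.Modules.pushforward c))
  have h2f : PreservesFiniteColimits ((QCohCat.isQCoh X).ι ⋙ Φ₂ (pullback.fst f h) c N) :=
    preservesFiniteColimits_of_natIso e4
  have h2 : ∀ J : Type u, PreservesColimitsOfShape (Discrete J)
      ((QCohCat.isQCoh X).ι ⋙ Φ₂ (pullback.fst f h) c N) := fun J =>
    preservesColimitsOfShape_of_natIso e4
  have h5 : IsIso (Functor.whiskerLeft (QCohCat.isQCoh X).ι (al (pullback.fst f h) c N)) := by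
    have : ∀ M, IsIso ((Functor.whiskerLeft (QCohCat.isQCoh X).ι
        (al (pullback.fst f h) c N)).app M) := fun M =>
      isIso_al (pullback.fst f h) c N (fun hU => isAffineHom_fromSpec f hU) M.obj M.property
    exact NatIso.isIso_of_isIso_app _
  let e5 := @asIso _ _ _ _ _ h5
  obtain ⟨e2⟩ := nonempty_bc (pullback.snd f g) (pullback.fst g h) a b H L hL hLf
  let e2' : ((QCohCat.isQCoh X).ι ⋙ FM (pullback.fst f g) (pullback.snd f g) K) ⋙
        FM (pullback.fst g h) (pullback.snd g h) L ≅
      pullTensQ (pullback.fst f g) K hK ⋙ ((QCohCat.isQCoh (pullback f g)).ι ⋙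
        (Scheme.Modules.pullback a ⋙ DCoh.tensorRightMod L') ⋙
          Scheme.Modules.pushforward b) ⋙ Scheme.Modules.pushforward (pullback.snd g h) :=
    Functor.isoWhiskerLeft (pullTensQ (pullback.fst f g) K hK)
      (Functor.isoWhiskerRight e2 (Scheme.Modules.pushforward (pullback.snd g h)))
  let e3 : pullTensQ (pullback.fst f g) K hK ⋙ ((QCohCat.isQCoh (pullback f g)).ι ⋙
        (Scheme.Modules.pullback a ⋙ DCoh.tensorRightMod L') ⋙
          Scheme.Modules.pushforward b) ⋙ Scheme.Modules.pushforward (pullback.snd g h) ≅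
      Θ ⋙ Scheme.Modules.pushforward (pullback.snd f h) :=
    Functor.isoWhiskerLeft (pullTensQ (pullback.fst f g) K hK ⋙
      (QCohCat.isQCoh (pullback f g)).ι ⋙
        (Scheme.Modules.pullback a ⋙ DCoh.tensorRightMod L'))
      (pushIso b (pullback.snd g h) _ rfl ≪≫
        (pushIso c (pullback.snd f h) _ h₂).symm)
  exact ⟨e2' ≪≫ e3 ≪≫ Functor.isoWhiskerRight (e4 ≪≫ e5.symm)
    (Scheme.Modules.pushforward (pullback.snd f h))⟩

end Main

end K293.FMComp
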