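import Groth.Agent.Models2.FMExact
import Groth.Agent.PerfC.TildeStalk

/-!
# Flatness over an affine base from exactness of `M ↦ p^* M~ ⊗ K`
-/

set_option autoImplicit false
universe u
open CategoryTheory CategoryTheory.Limits AlgebraicGeometry TopologicalSpace MonoidalCategory

namespace K293.FlatCrit

open Groth.Agent.CycB.StalkExact Groth.Agent.Fdesc.PullbackStalk Groth.Agent.PerfC.FlatExact
open Groth.Agent.Dcoh.Stalk Groth.Agent.PerfC.TildeStalk Groth.Agent.Models2.FMExact

section Algebra

open TensorProduct

theorem injective_lTensor_of_rTensor_baseChange {R S M N K : Type*} [CommRing R] [CommRing S]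
    [Algebra R S] [AddCommGroup M] [AddCommGroup N] [AddCommGroup K] [Module R M] [Module R N]
    [Module S K] [Module R K] [IsScalarTower R S K] (ψ : M →ₗ[R] N)
    (h : Function.Injective ((ψ.baseChange S).rTensor K)) :
    Function.Injective (ψ.lTensor K) := by
  have key : ∀ t : K ⊗[S] (S ⊗[R] M),
      AlgebraTensorModule.cancelBaseChange R S S K N ((ψ.baseChange S).lTensor K t) =
        ψ.lTensor K (AlgebraTensorModule.cancelBaseChange R S S K M t) := by
    intro t
    induction t using TensorProduct.induction_on with
    | zero => simp only [map_zero]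
    | add a b ha hb => simp only [map_add, ha, hb]
    | tmul k t =>
      induction t using TensorProduct.induction_on with
      | zero => simp only [tmul_zero, map_zero]
      | add a b ha hb => simp only [tmul_add, map_add, ha, hb]
      | tmul s m =>
        simp only [LinearMap.lTensor_tmul, LinearMap.baseChange_tmul,
          AlgebraTensorModule.cancelBaseChange_tmul]
  have key2 : ∀ t : (S ⊗[R] M) ⊗[S] K,
      TensorProduct.comm S (S ⊗[R] N) K ((ψ.baseChange S).rTensor K t) =
        (ψ.baseChange S).lTensor K (TensorProduct.comm S (S ⊗[R] M) K t) := by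
    intro t
    induction t using TensorProduct.induction_on with
    | zero => simp only [map_zero]
    | add a b ha hb => simp only [map_add, ha, hb]
    | tmul k t => rfl
  intro a b hab
  obtain ⟨a, rfl⟩ := (AlgebraTensorModule.cancelBaseChange R S S K M).surjective a
  obtain ⟨b, rfl⟩ := (AlgebraTensorModule.cancelBaseChange R S S K M).surjective b
  rw [← key, ← key] at hab
  have h1 := (AlgebraTensorModule.cancelBaseChange R S S K N).injective hab
  obtain ⟨a, rfl⟩ := (TensorProduct.comm S (S ⊗[R] M) K).surjective a
  obtain ⟨b, rfl⟩ := (TensorProduct.comm S (S ⊗[R] M) K).surjective b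
  rw [← key2, ← key2] at h1
  rw [h ((TensorProduct.comm S (S ⊗[R] N) K).injective h1)]

/-- Flatness over `A`, a localization of `R`, tested on `R`-modules. -/
theorem flat_of_localization {R A K : Type u} [CommRing R] [CommRing A] [Algebra R A]
    (S : Submonoid R) [IsLocalization S A] [AddCommGroup K] [Module A K]
    (H : ∀ (N N' : Type u) [AddCommGroup N] [AddCommGroup N'] [Module R N] [Module R N']
      (ψ : N →ₗ[R] N'), Function.Injective ψ →
      ∃ (L L' : Type u) (_ : AddCommGroup L) (_ : AddCommGroup L') (_ : Module A L)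
        (_ : Module A L') (_ : Module R L) (_ : Module R L') (_ : IsScalarTower R A L)
        (_ : IsScalarTower R A L') (g : N →ₗ[R] L) (g' : N' →ₗ[R] L') (ψ' : L →ₗ[A] L'),
        IsBaseChange A g ∧ IsBaseChange A g' ∧ (∀ n, ψ' (g n) = g' (ψ n)) ∧
          Function.Injective (ψ'.lTensor K)) : Module.Flat A K := by
  letI : Module R K := Module.compHom K (algebraMap R A)
  haveI : IsScalarTower R A K := IsScalarTower.of_algebraMap_smul fun _ _ => rfl
  refine (Module.flat_iff_of_isLocalization A S K).2 ?_
  rw [Module.Flat.iff_lTensor_preserves_injective_linearMap]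
  intro N N' _ _ _ _ ψ hψ
  obtain ⟨L, L', i1, i2, i3, i4, i5, i6, i7, i8, g, g', ψ', hg, hg', hc, hi⟩ := H N N' ψ hψ
  have key : ∀ t : K ⊗[R] N, cancelEquiv (P := K) g' hg' (ψ.lTensor K t) =
      ψ'.lTensor K (cancelEquiv (P := K) g hg t) := by
    intro t
    induction t using TensorProduct.induction_on with
    | zero => simp only [map_zero]
    | add a b ha hb => simp only [map_add, ha, hb]
    | tmul k t =>
      rw [LinearMap.lTensor_tmul, cancelEquiv_tmul, cancelEquiv_tmul, LinearMap.lTensor_tmul, hc]
  intro a b hab
  apply (cancelEquiv (P := K) g hg).injective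
  apply hi
  rw [← key, ← key, hab]

end Algebra

section

variable {X Z : Scheme.{u}} (f : Z ⟶ X) (K : Z.Modules)

/-- Injectivity on stalks. -/
theorem injective_stalk {M N : X.Modules} (φ : M ⟶ N)
    (h : Mono ((DCoh.tensorBi.flip.obj K).map ((Scheme.Modules.pullback f).map φ))) (z : Z) :
    letI := FlatMod.moduleStalkOver f K z
    Function.Injective ((stalkLin φ (f.base z)).lTensor (K.presheaf.stalk z)) := by
  let _ := stalkAlg f z
  let _ := FlatMod.moduleStalkOver f K z
  have := isScalarTower f K z
  refine injective_lTensor_of_rTensor_baseChange (S := Z.presheaf.stalk z)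
    (stalkLin φ (f.base z)) ?_
  have h3 : ∀ t, (stalkLin ((Scheme.Modules.pullback f).map φ) z).rTensor (K.presheaf.stalk z)
      ((stalkPullbackEquiv f M z).rTensor (K.presheaf.stalk z) t) =
      (stalkPullbackEquiv f N z).rTensor (K.presheaf.stalk z)
        (((stalkLin φ (f.base z)).baseChange (Z.presheaf.stalk z)).rTensor
          (K.presheaf.stalk z) t) := by
    intro t
    induction t using TensorProduct.induction_on with
    | zero => simp only [map_zero]
    | add a b ha hb => simp only [map_add, ha, hb]
    | tmul k t =>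
      simp only [LinearMap.rTensor_tmul, LinearEquiv.rTensor_tmul]
      rw [stalkLin_pullback f φ z k]
      rfl
  have nat := tensorStalkIso_naturality_left (N := K) ((Scheme.Modules.pullback f).map φ) z
  have nat' := congrArg ModuleCat.Hom.hom nat
  have h1 : Function.Injective
      ((stalkLin ((Scheme.Modules.pullback f).map φ) z).rTensor (K.presheaf.stalk z)) := by
    have h0 : Function.Injective
        (stalkLin ((DCoh.tensorBi.flip.obj K).map ((Scheme.Modules.pullback f).map φ)) z) :=
      stalkLin_injective _ z
    intro a b hab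
    obtain ⟨a, rfl⟩ := (tensorStalkIso ((Scheme.Modules.pullback f).obj M) K
      z).toLinearEquiv.surjective a
    obtain ⟨b, rfl⟩ := (tensorStalkIso ((Scheme.Modules.pullback f).obj M) K
      z).toLinearEquiv.surjective b
    congr 1
    apply h0
    apply (tensorStalkIso ((Scheme.Modules.pullback f).obj N) K z).toLinearEquiv.injective
    exact (LinearMap.congr_fun nat' a).trans (hab.trans (LinearMap.congr_fun nat' b).symm)
  intro a b hab
  apply ((stalkPullbackEquiv f M z).rTensor (K.presheaf.stalk z)).injective
  apply h1
  rw [h3, h3, hab]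

end

/-- `K` is flat over `Spec R` as soon as `M ↦ p^* M~ ⊗ K` preserves injections. -/
theorem isFlatOver_of_mono {R : CommRingCat.{u}} {Z : Scheme.{u}} (f : Z ⟶ Spec R) (K : Z.Modules)
    (h : ∀ (M N : ModuleCat.{u} R) (ψ : M ⟶ N), Mono ψ →
      Mono ((DCoh.tensorBi.flip.obj K).map ((Scheme.Modules.pullback f).map (tilde.map ψ)))) :
    FlatMod.IsFlatOver f K := by
  intro z
  letI i0 : Algebra R ((Spec R).presheaf.stalk (f.base z)) := (alpha (f.base z)).toAlgebra
  letI i1 := FlatMod.moduleStalkOver f K z
  have hl := isLocalization_alpha (f.base z)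
  refine flat_of_localization (R := R) (A := (Spec R).presheaf.stalk (f.base z))
    (px (f.base z)).primeCompl ?_
  intro N N' _ _ _ _ ψ hψ
  let ψc : ModuleCat.of R N ⟶ ModuleCat.of R N' := ModuleCat.ofHom ψ
  have hψc : Mono ψc := (ModuleCat.mono_iff_injective ψc).2 hψ
  let j1 : Module R ((stalkF (f.base z)).obj (tilde (ModuleCat.of R N))) :=
    Module.compHom _ (alpha (f.base z))
  let j2 : Module R ((stalkF (f.base z)).obj (tilde (ModuleCat.of R N'))) :=
    Module.compHom _ (alpha (f.base z))
  have t1 : IsScalarTower R ((Spec R).presheaf.stalk (f.base z))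
      ((stalkF (f.base z)).obj (tilde (ModuleCat.of R N))) :=
    IsScalarTower.of_algebraMap_smul fun _ _ => rfl
  have t2 : IsScalarTower R ((Spec R).presheaf.stalk (f.base z))
      ((stalkF (f.base z)).obj (tilde (ModuleCat.of R N'))) :=
    IsScalarTower.of_algebraMap_smul fun _ _ => rfl
  obtain ⟨g, hg, hg'⟩ := isBaseChange_toSt (f.base z) (ModuleCat.of R N)
  obtain ⟨g₂, hg₂, hg₂'⟩ := isBaseChange_toSt (f.base z) (ModuleCat.of R N')
  refine ⟨(stalkF (f.base z)).obj (tilde (ModuleCat.of R N)),
    (stalkF (f.base z)).obj (tilde (ModuleCat.of R N')), inferInstance, inferInstance,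
    inferInstance, inferInstance, j1, j2, t1, t2, g, g₂, stalkLin (tilde.map ψc) (f.base z),
    hg', hg₂', fun n => ?_, injective_stalk f K (tilde.map ψc) (h _ _ ψc hψc) z⟩
  rw [hg, hg₂]
  exact toSt_naturality (f.base z) ψc n

end K293.FlatCrit
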