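import Groth.Agent.Ega3A.Watts
import Mathlib.CategoryTheory.Adjunction.Limits

/-!
# Natural transformations of right exact functors on modules
-/

set_option autoImplicit false

universe u v w

open CategoryTheory Limits

namespace K293.ModIso

open Groth.Agent.Ega3A.Watts

variable {A : Type u} [CommRing A] {B : Type w} [Category.{v} B] {F G : ModuleCat.{u} A ⥤ B}

/-- A natural transformation between right exact functors which preserve coproducts is invertible
as soon as it is so at the free module of rank one. -/
theorem isIso_app_of_unit (τ : F ⟶ G) [PreservesFiniteColimits F] [PreservesFiniteColimits G]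
    [∀ J : Type u, PreservesColimitsOfShape (Discrete J) F]
    [∀ J : Type u, PreservesColimitsOfShape (Discrete J) G]
    (h : IsIso (τ.app (ModuleCat.of A A))) (M : ModuleCat.{u} A) : IsIso (τ.app M) := by
  have h1 : ∀ M : ModuleCat.{u} A, IsIso (τ.app (coverObj M)) := fun M =>
    isIso_app_of_isColimit τ (colimit.isColimit (Discrete.functor fun _ : M => ModuleCat.of A A))
      (fun _ => h)
  let π := coverHom M
  let π' := coverHom (kernel π)
  let S : ShortComplex (ModuleCat.{u} A) := ShortComplex.mk (π' ≫ kernel.ι π) π (by simp)
  have hS : S.Exact := by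
    have hS0 : (ShortComplex.mk (kernel.ι π) π (by simp)).Exact :=
      ShortComplex.exact_of_f_is_kernel _ (kernelIsKernel _)
    let φ : S ⟶ ShortComplex.mk (kernel.ι π) π (by simp) :=
      { τ₁ := π', τ₂ := 𝟙 _, τ₃ := 𝟙 _ }
    have : Epi φ.τ₁ := epi_coverHom _
    have : IsIso φ.τ₂ := inferInstanceAs (IsIso (𝟙 _))
    have : Mono φ.τ₃ := inferInstanceAs (Mono (𝟙 _))
    exact (ShortComplex.exact_iff_of_epi_of_isIso_of_mono φ).2 hS0
  have : Epi S.g := epi_coverHom M
  refine isIso_app_of_isColimit τ hS.gIsCokernel (fun i => ?_)
  match i with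
  | .zero => exact h1 _
  | .one => exact h1 _

end K293.ModIso
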