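import Groth.Agent.FunMor.K355.FMCoprod
import Groth.Agent.FunMor.K293.ModIso
import Groth.Agent.Dual.H379.ModVia
import Groth.Agent.Fga.UnitRestrict
import Groth.Agent.FormalB.BCNat
import Groth.Agent.Dcoh.TMod
import Groth.Agent.PerfB.TensUnit
import Groth.Agent.PerfA.QCohSerre
import Groth.Agent.Dcoh.PushRestrict

/-!
# The projection formula for acyclic kernels

For `c : W ⟶ Q`, `r : Q ⟶ X` and a module `N` on `W` we study the projection map
`r^* M ⊗ c_* N ⟶ c_* (c^* r^* M ⊗ N)` for quasi-coherent `M` on `X`.  If the target is right exact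
and preserves coproducts in `M`, it is an isomorphism.
-/

set_option autoImplicit false
universe u
open CategoryTheory CategoryTheory.Limits AlgebraicGeometry

namespace K293.ProjAc

open K355 Groth.Agent Groth.Agent.Dcoh.Stalk Groth.Agent.FormalB.BC
open Groth.Agent.Dual.H379

section

variable {X Q W : Scheme.{u}} (r : Q ⟶ X) (c : W ⟶ Q) (N : W.Modules)

/-- `M ↦ r^* M ⊗ c_* N`. -/
noncomputable abbrev Φ₁ : X.Modules ⥤ Q.Modules :=
  Scheme.Modules.pullback r ⋙ DCoh.tensorRightMod ((Scheme.Modules.pushforward c).obj N)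

/-- `M ↦ c_* (c^* r^* M ⊗ N)`. -/
noncomputable abbrev Φ₂ : X.Modules ⥤ Q.Modules :=
  (Scheme.Modules.pullback r ⋙ Scheme.Modules.pullback c) ⋙ DCoh.tensorRightMod N ⋙
    Scheme.Modules.pushforward c

open scoped Groth.Agent.Dcoh.MonCat in
/-- The projection map. -/
noncomputable def al : Φ₁ r c N ⟶ Φ₂ r c N :=
  letI := Groth.Agent.Dcoh.MonPull.monPull c
  { app := fun M => ModVia.proj (Scheme.Modules.pullback c)
      (Scheme.Modules.pullbackPushforwardAdjunction c) ((Scheme.Modules.pullback r).obj M) N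
    naturality := fun _ _ φ => ModVia.proj_naturality_left (Scheme.Modules.pullback c)
      (Scheme.Modules.pullbackPushforwardAdjunction c) ((Scheme.Modules.pullback r).map φ) N }

open scoped Groth.Agent.Dcoh.MonCat in
open MonoidalCategory in
theorem isIso_al_unit : IsIso ((al r c N).app (Coh.structureModule X)) := by
  letI := Groth.Agent.Dcoh.MonPull.monPull c
  let e : (Scheme.Modules.pullback r).obj (Coh.structureModule X) ≅ 𝟙_ Q.Modules :=
    PerfB.TensUnit.pullbackUnit r
  letI : ExactPairing ((Scheme.Modules.pullback r).obj (Coh.structureModule X))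
    (𝟙_ Q.Modules) := exactPairingCongrLeft e
  exact ModVia.isIso_proj (Scheme.Modules.pullback c)
    (Scheme.Modules.pullbackPushforwardAdjunction c)
    ((Scheme.Modules.pullback r).obj (Coh.structureModule X)) (𝟙_ Q.Modules) N

end

section Loc

/-- A morphism which restricts to an isomorphism is bijective on stalks. -/
theorem bijective_of_isIso_restrict {X U : Scheme.{u}} (j : U ⟶ X) [IsOpenImmersion j]
    {M M' : X.Modules} (φ : M ⟶ M') (h : IsIso ((Scheme.Modules.restrictFunctor j).map φ))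
    (y : U) : Function.Bijective ((stalkF (j y)).map φ) := by
  have h2 : IsIso ((Scheme.Modules.restrictFunctor j ⋙ Scheme.Modules.toPresheaf _ ⋙
      TopCat.Presheaf.stalkFunctor _ y).map φ) :=
    inferInstanceAs (IsIso ((Scheme.Modules.toPresheaf _ ⋙
      TopCat.Presheaf.stalkFunctor _ y).map ((Scheme.Modules.restrictFunctor j).map φ)))
  rw [NatIso.isIso_map_iff (Scheme.Modules.restrictStalkNatIso j y),
    ConcreteCategory.isIso_iff_bijective] at h2
  exact h2

/-- The unit `M ⟶ j_* j^* M` is bijective on the stalks at the points of `U`. -/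
theorem bijective_unit {X U : Scheme.{u}} (j : U ⟶ X) [IsOpenImmersion j] (M : X.Modules)
    (y : U) : Function.Bijective
      ((stalkF (j y)).map ((Scheme.Modules.restrictAdjunction j).unit.app M)) :=
  bijective_of_isIso_restrict j _ inferInstance y

theorem bijective_iff {X Q : Scheme.{u}} {F G : X.Modules ⥤ Q.Modules} (e : F ≅ G)
    {M M' : X.Modules} (φ : M ⟶ M') (z : Q) :
    Function.Bijective ((stalkF z).map (F.map φ)) ↔
      Function.Bijective ((stalkF z).map (G.map φ)) := by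
  rw [← ConcreteCategory.isIso_iff_bijective, ← ConcreteCategory.isIso_iff_bijective]
  exact NatIso.isIso_map_iff (Functor.isoWhiskerRight e (stalkF z)) φ

variable {X Q W : Scheme.{u}} (r : Q ⟶ X) (c : W ⟶ Q) (N : W.Modules)

theorem bijective_pullTens (K : Q.Modules) {M M' : X.Modules} (φ : M ⟶ M') (z : Q)
    (h : Function.Bijective ((stalkF (r z)).map φ)) :
    Function.Bijective ((stalkF z).map
      ((Scheme.Modules.pullback r ⋙ DCoh.tensorRightMod K).map φ)) :=
  (bijective_iff (Functor.isoWhiskerLeft (Scheme.Modules.pullback r) (Dcoh.TMod.braidIso K))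
    φ z).1 (bijective_stalk_T_map r K φ z h)

theorem isIso_restrict_push (D : Q.Opens) {A B : W.Modules} (ψ : A ⟶ B)
    (h : ∀ w ∈ c ⁻¹ᵁ D, Function.Bijective ((stalkF w).map ψ)) :
    IsIso ((Scheme.Modules.restrictFunctor D.ι).map ((Scheme.Modules.pushforward c).map ψ)) := by
  have h1 := isIso_restrict_of_stalk (c ⁻¹ᵁ D) ψ h
  exact (NatIso.isIso_map_iff (Dcoh.PushRestrict.pushMorphismRestrictIso c D) ψ).2
    (inferInstanceAs (IsIso ((Scheme.Modules.pushforward (c ∣_ D)).map
      ((Scheme.Modules.restrictFunctor (c ⁻¹ᵁ D).ι).map ψ))))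

theorem isIso_Φ₁ (U : X.Opens) {M M' : X.Modules} (φ : M ⟶ M')
    (h : ∀ x ∈ U, Function.Bijective ((stalkF x).map φ)) :
    IsIso ((Scheme.Modules.restrictFunctor (r ⁻¹ᵁ U).ι).map ((Φ₁ r c N).map φ)) :=
  isIso_restrict_of_stalk (r ⁻¹ᵁ U) _ fun z hz => bijective_pullTens r _ φ z (h _ hz)

theorem isIso_Φ₂ (U : X.Opens) {M M' : X.Modules} (φ : M ⟶ M')
    (h : ∀ x ∈ U, Function.Bijective ((stalkF x).map φ)) :
    IsIso ((Scheme.Modules.restrictFunctor (r ⁻¹ᵁ U).ι).map ((Φ₂ r c N).map φ)) := by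
  refine isIso_restrict_push c (r ⁻¹ᵁ U)
    (((Scheme.Modules.pullback r ⋙ Scheme.Modules.pullback c) ⋙ DCoh.tensorRightMod N).map φ)
    fun w hw => ?_
  refine (bijective_iff (Functor.isoWhiskerRight (pullIso c r (c ≫ r) rfl)
    (DCoh.tensorRightMod N)) φ w).2 ?_
  exact bijective_pullTens (c ≫ r) N φ w (h _ hw)

/-- Invertibility of the projection map over `r⁻¹ U` only depends on `M` over `U`. -/
theorem isIso_al_iff (U : X.Opens) {M M' : X.Modules} (φ : M ⟶ M')
    (h : ∀ x ∈ U, Function.Bijective ((stalkF x).map φ)) :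
    IsIso ((Scheme.Modules.restrictFunctor (r ⁻¹ᵁ U).ι).map ((al r c N).app M)) ↔
      IsIso ((Scheme.Modules.restrictFunctor (r ⁻¹ᵁ U).ι).map ((al r c N).app M')) := by
  have h1 := isIso_Φ₁ r c N U φ h
  have h2 := isIso_Φ₂ r c N U φ h
  have h3 := congrArg (Scheme.Modules.restrictFunctor (r ⁻¹ᵁ U).ι).map ((al r c N).naturality φ)
  rw [Functor.map_comp, Functor.map_comp] at h3
  constructor
  · intro h4
    refine @IsIso.of_isIso_comp_left _ _ _ _ _ _ _ h1 ?_
    rw [h3]
    infer_instance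
  · intro h4
    refine @IsIso.of_isIso_comp_right _ _ _ _ _ _ _ h2 ?_
    rw [← h3]
    infer_instance

end Loc

section Main

variable {X Q W : Scheme.{u}} (r : Q ⟶ X) (c : W ⟶ Q) (N : W.Modules)

theorem isIso_al_chart [PreservesFiniteColimits ((QCohCat.isQCoh X).ι ⋙ Φ₂ r c N)]
    [∀ J : Type u, PreservesColimitsOfShape (Discrete J) ((QCohCat.isQCoh X).ι ⋙ Φ₂ r c N)]
    {U : X.Opens} (hU : IsAffineOpen U) [IsAffineHom hU.fromSpec] (M : X.Modules)
    (hM : Coh.IsQCoh M) :
    IsIso ((Scheme.Modules.restrictFunctor (r ⁻¹ᵁ U).ι).map ((al r c N).app M)) := by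
  let j := hU.fromSpec
  let ρ := Scheme.Modules.restrictFunctor (r ⁻¹ᵁ U).ι
  have hj : ∀ (M : X.Modules), ∀ x ∈ U, Function.Bijective
      ((stalkF x).map ((Scheme.Modules.restrictAdjunction j).unit.app M)) := by
    intro M x hx
    have hx' : x ∈ Set.range j := by
      rw [hU.range_fromSpec]
      exact hx
    obtain ⟨y, rfl⟩ := hx'
    exact bijective_unit j M y
  let τ' : Φ₁ r c N ⋙ ρ ⟶ Φ₂ r c N ⋙ ρ := Functor.whiskerRight (al r c N) ρ
  let E : ModuleCat.{u} Γ(X, U) ⥤ QCohCat.QCoh X :=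
    (Models2.QCohPush.tildeQ Γ(X, U)).functor ⋙ Models2.QCohPush.pushQ j
  -- the two functors on modules
  let H₁ : ModuleCat.{u} Γ(X, U) ⥤ (r ⁻¹ᵁ U).toScheme.Modules :=
    E ⋙ ((QCohCat.isQCoh X).ι ⋙ Φ₁ r c N) ⋙ ρ
  let H₂ : ModuleCat.{u} Γ(X, U) ⥤ (r ⁻¹ᵁ U).toScheme.Modules :=
    E ⋙ ((QCohCat.isQCoh X).ι ⋙ Φ₂ r c N) ⋙ ρ
  let τ : H₁ ⟶ H₂ := Functor.whiskerLeft (E ⋙ (QCohCat.isQCoh X).ι) τ'
  have hE : ∀ (J : Type u) [SmallCategory J], PreservesColimitsOfShape J E := by
    intro J _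
    have := preservesColimits_pushQ_affine j J
    infer_instance
  have hEf : PreservesFiniteColimits E := preservesFiniteColimits_of_small E hE
  have h1 : ∀ (J : Type u) [SmallCategory J], PreservesColimitsOfShape J
      ((QCohCat.isQCoh X).ι ⋙ Φ₁ r c N) := by
    intro J _
    have := preservesColimits_pullTens r ((Scheme.Modules.pushforward c).obj N) J
    infer_instance
  have h1f : PreservesFiniteColimits ((QCohCat.isQCoh X).ι ⋙ Φ₁ r c N) :=
    preservesFiniteColimits_of_small _ h1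
  have hρ : PreservesColimits ρ := (Scheme.Modules.restrictAdjunction _).leftAdjoint_preservesColimits
  have hH₁f : PreservesFiniteColimits H₁ := inferInstance
  have hH₂f : PreservesFiniteColimits H₂ := inferInstance
  have hH₁ : ∀ J : Type u, PreservesColimitsOfShape (Discrete J) H₁ := fun J => inferInstance
  have hH₂ : ∀ J : Type u, PreservesColimitsOfShape (Discrete J) H₂ := fun J => inferInstance
  -- the structure sheaf
  have h2 : IsIso (τ'.app (Coh.structureModule X)) := by
    have := isIso_al_unit r c N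
    exact inferInstanceAs (IsIso (ρ.map ((al r c N).app (Coh.structureModule X))))
  have h3 : IsIso (τ'.app ((Scheme.Modules.pushforward j).obj
      ((Scheme.Modules.restrictFunctor j).obj (Coh.structureModule X)))) :=
    (isIso_al_iff r c N U _ (hj _)).1 h2
  let e0 : (Scheme.Modules.restrictFunctor j).obj (Coh.structureModule X) ≅
      tilde (ModuleCat.of Γ(X, U) Γ(X, U)) :=
    Scheme.Modules.restrictUnitIso j ≪≫ tildeSelf.symm
  have h4 : IsIso (τ.app (ModuleCat.of Γ(X, U) Γ(X, U))) :=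
    (NatTrans.isIso_app_iff_of_iso τ' ((Scheme.Modules.pushforward j).mapIso e0)).1 h3
  have h5 := ModIso.isIso_app_of_unit τ h4
  -- the given module
  let M' : QCohCat.QCoh (Spec Γ(X, U)) :=
    (Models2.QCohPush.restrictQ j).obj ⟨M, hM⟩
  have h6 := h5 ((Models2.QCohPush.tildeQ Γ(X, U)).inverse.obj M')
  let e1 : ((Models2.QCohPush.tildeQ Γ(X, U)).functor.obj
      ((Models2.QCohPush.tildeQ Γ(X, U)).inverse.obj M')).obj ≅
      (Scheme.Modules.restrictFunctor j).obj M :=
    (QCohCat.isQCoh _).ι.mapIso ((Models2.QCohPush.tildeQ Γ(X, U)).counitIso.app M')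
  have h7 : IsIso (τ'.app ((Scheme.Modules.pushforward j).obj
      ((Scheme.Modules.restrictFunctor j).obj M))) :=
    (NatTrans.isIso_app_iff_of_iso τ' ((Scheme.Modules.pushforward j).mapIso e1)).1 h6
  exact (isIso_al_iff r c N U _ (hj _)).2 h7

/-- The projection formula. -/
theorem isIso_al [PreservesFiniteColimits ((QCohCat.isQCoh X).ι ⋙ Φ₂ r c N)]
    [∀ J : Type u, PreservesColimitsOfShape (Discrete J) ((QCohCat.isQCoh X).ι ⋙ Φ₂ r c N)]
    (hX : ∀ {U : X.Opens} (hU : IsAffineOpen U), IsAffineHom hU.fromSpec) (M : X.Modules)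
    (hM : Coh.IsQCoh M) : IsIso ((al r c N).app M) := by
  refine Fga.UnitRestrict.isIso_of_locally _ fun z => ?_
  obtain ⟨U, hU, hzU, -⟩ := exists_isAffineOpen_mem_and_subset
    (show r z ∈ (⊤ : X.Opens) from trivial)
  have := hX hU
  exact ⟨r ⁻¹ᵁ U, hzU, isIso_al_chart r c N hU M hM⟩

end Main

end K293.ProjAc
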